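import Cfsg.Agent.Lib.SylowAbel.GLBase
import Cfsg.Agent.Lib.SylowAbel.Mono
import Cfsg.Agent.Lib.SylowAbel.MonoBase
import Cfsg.Agent.Lib.TwoRank.Basic
import Cfsg.Prelude.Def_Transfer

/-!
Normal elementary abelian 2-subgroups of Sylow 2-subgroups coming from wreath products with a
central involution in the base.
-/

set_option autoImplicit false

namespace CfsgLib.NormalRank

open Matrix Cfsg

/-- If `X` embeds with odd index and has a normal elementary abelian 2-subgroup `N`, every Sylow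
2-subgroup of `G` has one of the same order. -/
theorem exists_normal_of_embedding {G X : Type*} [Group G] [Finite G] [Group X] [Finite X]
    (φ : X →* G) (hφ : Function.Injective φ)
    (hv : (Nat.card G).factorization 2 ≤ (Nat.card X).factorization 2) (N : Subgroup X) [hN : N.Normal]
    (hexp : ∀ a ∈ N, a * a = 1) (hcomm : ∀ a ∈ N, ∀ b ∈ N, a * b = b * a) (S : Sylow 2 G) :
    ∃ E : Subgroup ↥(S : Subgroup G), E.Normal ∧ IsElementaryAbelian 2 E ∧
      Nat.card N ≤ Nat.card E := by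
  haveI : Fact (Nat.Prime 2) := ⟨Nat.prime_two⟩
  obtain ⟨P⟩ : Nonempty (Sylow 2 X) := inferInstance
  have hN2 : IsPGroup 2 N := fun a => ⟨1, by rw [pow_one, pow_two]; exact Subtype.ext (hexp _ a.2)⟩
  obtain ⟨P₁, hP₁⟩ := hN2.exists_le_sylow
  have hPcard : Nat.card ((P₁ : Subgroup X).map φ) = 2 ^ (Nat.card G).factorization 2 := by
    rw [Subgroup.card_map_of_injective hφ, Sylow.card_eq_multiplicity]
    congr 1
    refine le_antisymm ?_ hv
    exact (Nat.factorization_le_iff_dvd Nat.card_pos.ne' Nat.card_pos.ne').2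
      (Subgroup.card_dvd_of_injective φ hφ) 2
  let R₀ : Sylow 2 G := Sylow.ofCard _ hPcard
  obtain ⟨g, hg⟩ := MulAction.exists_smul_eq G R₀ S
  have hS : (S : Subgroup G) = ((P₁ : Subgroup X).map φ).map (MulAut.conj g).toMonoidHom := by
    rw [← hg, Sylow.coe_subgroup_smul]; rfl
  let ψ : X →* G := (MulAut.conj g).toMonoidHom.comp φ
  have hψ : Function.Injective ψ := (MulAut.conj g).injective.comp hφ
  have hS' : (S : Subgroup G) = (P₁ : Subgroup X).map ψ := by rw [hS, Subgroup.map_map]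
  refine ⟨(N.map ψ).subgroupOf (S : Subgroup G), ⟨fun a ha x => ?_⟩, ⟨⟨⟨?_⟩⟩, ?_⟩, ?_⟩
  · obtain ⟨y, -, hy⟩ : (x : G) ∈ (P₁ : Subgroup X).map ψ := hS' ▸ x.2
    obtain ⟨n, hn, hna⟩ : (a : G) ∈ N.map ψ := ha
    exact ⟨y * n * y⁻¹, hN.conj_mem n hn y, by rw [map_mul, map_mul, map_inv, hy, hna]; rfl⟩
  · intro a b
    obtain ⟨n, hn, hna⟩ : ((a : ↥(S : Subgroup G)) : G) ∈ N.map ψ := a.2
    obtain ⟨m, hm, hmb⟩ : ((b : ↥(S : Subgroup G)) : G) ∈ N.map ψ := b.2
    refine Subtype.ext (Subtype.ext ?_)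
    show ((a : ↥(S : Subgroup G)) : G) * b = b * a
    rw [← hna, ← hmb, ← map_mul, ← map_mul, hcomm n hn m hm]
  · intro a ha
    obtain ⟨n, hn, hna⟩ : (a : G) ∈ N.map ψ := ha
    refine Subtype.ext ?_
    rw [SubmonoidClass.coe_pow, ← hna, ← map_pow, pow_two, hexp n hn, map_one, OneMemClass.coe_one]
  · refine le_of_eq ?_
    rw [Nat.card_congr (Subgroup.subgroupOfEquivOfLe (by rw [hS']; exact Subgroup.map_mono hP₁)).toEquiv,
      Subgroup.card_map_of_injective hψ]

/-- Tuples with all entries in a central subgroup of order two, inside a wreath product. -/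
theorem wreath_signs {n : ℕ} {Q : Type*} [Group Q] (R : Subgroup (Equiv.Perm (Fin n))) (z : Q)
    (hz1 : z ≠ 1) (hz : z * z = 1) (hzc : ∀ x, x * z = z * x) :
    ∃ N : Subgroup ((Fin n → Q) ⋊[(CfsgLib.SpSylowTwo.permAut (ι := Fin n) Q).comp R.subtype] R),
      N.Normal ∧ (∀ a ∈ N, a * a = 1) ∧ (∀ a ∈ N, ∀ b ∈ N, a * b = b * a) ∧ Nat.card N = 2 ^ n := by
  let Z : Subgroup Q :=
    { carrier := {x | x = 1 ∨ x = z}
      one_mem' := Or.inl rfl
      mul_mem' := by rintro a b (rfl | rfl) (rfl | rfl) <;> simp [hz]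
      inv_mem' := by rintro a (rfl | rfl) <;> simp [inv_eq_of_mul_eq_one_right hz] }
  have hZc : ∀ x : Q, ∀ a ∈ Z, x * a = a * x := by rintro x a (rfl | rfl) <;> simp [hzc]
  have hZe : ∀ a ∈ Z, a * a = 1 := by rintro a (rfl | rfl) <;> simp [hz]
  let K : Subgroup (Fin n → Q) := Subgroup.pi Set.univ fun _ => Z
  refine ⟨K.map SemidirectProduct.inl, ⟨?_⟩, ?_, ?_, ?_⟩
  · rintro _ ⟨f, hf, rfl⟩ x
    have hf' : ∀ i, f i ∈ Z := fun i => hf i (Set.mem_univ i)
    rw [← SemidirectProduct.inl_left_mul_inr_right x]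
    refine ⟨x.left * (((CfsgLib.SpSylowTwo.permAut (ι := Fin n) Q).comp R.subtype) x.right f) *
      x.left⁻¹, fun i _ => ?_, ?_⟩
    · show x.left i * f _ * (x.left i)⁻¹ ∈ Z
      rw [hZc _ _ (hf' _), mul_inv_cancel_right]
      exact hf' _
    · rw [map_mul, map_mul, map_inv, SemidirectProduct.inl_aut, map_inv]
      simp only [_root_.mul_inv_rev, mul_assoc]
  · rintro _ ⟨f, hf, rfl⟩
    rw [← map_mul, show f * f = 1 from funext fun i => hZe _ (hf i (Set.mem_univ i)), map_one]
  · rintro _ ⟨f, hf, rfl⟩ _ ⟨g, hg, rfl⟩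
    rw [← map_mul, ← map_mul]
    congr 1
    exact funext fun i => hZc _ _ (hg i (Set.mem_univ i))
  · rw [Subgroup.card_map_of_injective SemidirectProduct.inl_injective]
    let e : K ≃ (Fin n → Z) :=
      ⟨fun f i => ⟨f.1 i, f.2 i (Set.mem_univ i)⟩, fun f => ⟨fun i => (f i).1, fun i _ => (f i).2⟩,
        fun _ => rfl, fun _ => rfl⟩
    rw [Nat.card_congr e, Nat.card_fun, Nat.card_fin]
    congr 1
    show Nat.card ↥(({1, z} : Set Q)) = 2
    rw [Nat.card_coe_set_eq, Set.ncard_pair hz1.symm]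

variable {F : Type*} [Field F]

theorem neg_one_GL {m : ℕ} (hm : 0 < m) (h2 : (2 : F) ≠ 0) : (-1 : GL (Fin m) F) ≠ 1 := by
  intro h
  have := congrArg (fun x : GL (Fin m) F => (x : Matrix (Fin m) (Fin m) F) ⟨0, hm⟩ ⟨0, hm⟩) h
  simp only [Units.val_neg, Units.val_one, Matrix.neg_apply, Matrix.one_apply_eq] at this
  exact h2 (by linear_combination -this)

variable [Fintype F]

theorem lower_one (h4 : Fintype.card F % 4 = 1) (n : ℕ) (S : Sylow 2 (GL (Fin n) F)) :
    ∃ E : Subgroup ↥(S : Subgroup (GL (Fin n) F)), E.Normal ∧ IsElementaryAbelian 2 E ∧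
      2 ^ n ≤ Nat.card E := by
  classical
  have h2 : (2 : F) ≠ 0 :=
    CfsgLib.TwoRank.two_ne_zero_of_odd_card (Nat.odd_iff.2 (by omega))
  let C : Subgroup Fˣ := ⊤
  obtain ⟨N, hN, he, hc, hcard⟩ := wreath_signs (n := n) (⊤ : Subgroup (Equiv.Perm (Fin n)))
    (Q := C) ⟨-1, Subgroup.mem_top _⟩
    (fun h => h2 (by
      have h' := congrArg (fun x : C => ((x : Fˣ) : F)) h
      simp only [Units.val_neg, Units.val_one, OneMemClass.coe_one] at h'
      linear_combination -h'))
    (Subtype.ext (by simp)) (fun x => mul_comm _ _)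
  haveI := Finite.of_injective _ (CfsgLib.SylowAbel.monoGL_injective C (⊤ : Subgroup (Equiv.Perm (Fin n))))
  obtain ⟨E, h1, h2', h3⟩ := exists_normal_of_embedding _
    (CfsgLib.SylowAbel.monoGL_injective C (⊤ : Subgroup (Equiv.Perm (Fin n)))) (le_of_eq (by
      rw [CfsgLib.SylowAbel.factorization_GL_one h4, SemidirectProduct.card, Nat.card_fun,
        Subgroup.card_top, Subgroup.card_top, Nat.card_perm, Nat.card_fin, Nat.card_units,
        Nat.card_eq_fintype_card (α := F),
        Nat.factorization_mul (pow_ne_zero _ (by have := Fintype.one_lt_card (α := F); omega))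
          n.factorial_ne_zero, Finsupp.add_apply, Nat.factorization_pow, Finsupp.smul_apply,
        smul_eq_mul])) N he hc S
  exact ⟨E, h1, h2', hcard ▸ h3⟩

/-- Block diagonal with a diagonal tail. -/
noncomputable def blocksTail (ι : Type*) [Fintype ι] [DecidableEq ι] (r : ℕ) :
    GL ι F × (Fin r → Fˣ) →* GL (ι ⊕ Fin r) F :=
  MonoidHom.toHomUnits
    { toFun := fun x => fromBlocks (x.1 : Matrix ι ι F) 0 0
        (diagonal fun i => ((x.2 i : Fˣ) : F))
      map_one' := by simp [← fromBlocks_one]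
      map_mul' := fun x y => by simp [fromBlocks_multiply, diagonal_mul_diagonal] }

theorem blocksTail_injective (ι : Type*) [Fintype ι] [DecidableEq ι] (r : ℕ) :
    Function.Injective (blocksTail (F := F) ι r) := fun x y h => by
  obtain ⟨h1, -, -, h4⟩ := fromBlocks_inj.1 (congrArg Units.val h)
  exact Prod.ext (Units.ext h1) (funext fun i => Units.ext (congrFun (diagonal_injective h4) i))

theorem lower_three (h4 : Fintype.card F % 4 = 3) (n : ℕ) (S : Sylow 2 (GL (Fin n) F)) :
    ∃ E : Subgroup ↥(S : Subgroup (GL (Fin n) F)), E.Normal ∧ IsElementaryAbelian 2 E ∧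
      2 ^ ((n + 1) / 2) ≤ Nat.card E := by
  classical
  have h2 : (2 : F) ≠ 0 :=
    CfsgLib.TwoRank.two_ne_zero_of_odd_card (CfsgLib.SylowAbel.odd_of_three h4)
  obtain ⟨m, r, hr, rfl⟩ : ∃ m r, r ≤ 1 ∧ n = 2 * m + r := ⟨n / 2, n % 2, by omega, by omega⟩
  let D : Subgroup (GL (Fin 2) F) := ⊤
  let R : Subgroup (Equiv.Perm (Fin m)) := ⊤
  obtain ⟨N₁, hN₁, he₁, hc₁, hcard₁⟩ := wreath_signs (n := m) R
    (Q := D) ⟨-1, Subgroup.mem_top _⟩
    (fun h => neg_one_GL two_pos h2 (congrArg Subtype.val h))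
    (Subtype.ext (by simp)) (fun x => Subtype.ext (by simp))
  let Z : Subgroup (Fin r → Fˣ) :=
    (((Units.map (Int.castRingHom F).toMonoidHom : ℤˣ →* Fˣ)).compLeft (Fin r)).range
  have hZ : ∀ a ∈ Z, a * a = 1 := by
    rintro _ ⟨s, rfl⟩
    rw [← map_mul, show s * s = 1 from funext fun i => Int.units_mul_self _, map_one]
  have hZcard : Nat.card Z = 2 ^ r := by
    rw [← Nat.card_congr (MonoidHom.ofInjective (fun s t h => ?_)).toEquiv, Nat.card_fun,
      Nat.card_fin, Nat.card_eq_fintype_card, Fintype.card_units_int]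
    funext i
    have h' := congrArg Units.val (congrFun h i)
    rcases Int.units_eq_one_or (s i) with hs | hs <;> rcases Int.units_eq_one_or (t i) with ht | ht <;>
      simp [hs, ht] at h' ⊢
    · exact h2 (by linear_combination h')
    · exact h2 (by linear_combination -h')
  let e : (Fin 2 × Fin m) ⊕ Fin r ≃ Fin (2 * m + r) :=
    (Equiv.sumCongr finProdFinEquiv (Equiv.refl _)).trans finSumFinEquiv
  let φ : CfsgLib.SylowAbel.WGroup D R × (Fin r → Fˣ) →* GL (Fin (2 * m + r)) F :=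
    (Units.mapEquiv (Matrix.reindexAlgEquiv F F e).toMulEquiv).toMonoidHom.comp
      ((blocksTail (Fin 2 × Fin m) r).comp
        ((CfsgLib.SylowAbel.wreathGL D R).prodMap (MonoidHom.id _)))
  have hφ : Function.Injective φ :=
    (Units.mapEquiv (Matrix.reindexAlgEquiv F F e).toMulEquiv).injective.comp
      ((blocksTail_injective _ _).comp
        ((CfsgLib.SylowAbel.wreathGL_injective D R).prodMap Function.injective_id))
  haveI := Finite.of_injective _ hφ
  have hv : (Nat.card (GL (Fin (2 * m + r)) F)).factorization 2 =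
      (Nat.card (CfsgLib.SylowAbel.WGroup D R × (Fin r → Fˣ))).factorization 2 := by
    have hq : 1 < Fintype.card F := Fintype.one_lt_card
    have h1 : (Fintype.card F - 1).factorization 2 = 1 := by
      simpa using CfsgLib.SylowAbel.factorization_pow_sub_one_odd h4 (j := 1) odd_one
    have hGL2 := CfsgLib.SylowAbel.factorization_GL_even (F := F) h4 1
    rw [mul_one, one_mul, Nat.factorial_one, Nat.factorization_one, Finsupp.zero_apply, add_zero] at hGL2
    rw [Nat.card_prod, SemidirectProduct.card, Nat.card_fun, Nat.card_fun, Subgroup.card_top,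
      Subgroup.card_top, Nat.card_perm, Nat.card_fin, Nat.card_fin, Nat.card_units,
      Nat.card_eq_fintype_card (α := F),
      Nat.factorization_mul (mul_ne_zero (pow_ne_zero _ Nat.card_pos.ne') m.factorial_ne_zero)
        (pow_ne_zero _ (by omega)), Finsupp.add_apply,
      Nat.factorization_mul (pow_ne_zero _ Nat.card_pos.ne') m.factorial_ne_zero, Finsupp.add_apply,
      Nat.factorization_pow, Finsupp.smul_apply, Nat.factorization_pow, Finsupp.smul_apply, h1,
      hGL2, smul_eq_mul, smul_eq_mul, mul_one]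
    interval_cases r
    · exact CfsgLib.SylowAbel.factorization_GL_even h4 m
    · rw [CfsgLib.SylowAbel.factorization_GL_succ h4, CfsgLib.SylowAbel.factorization_GL_even h4,
        CfsgLib.SylowAbel.factorization_pow_sub_one_odd (F := F) h4 (j := 2 * m + 1) ⟨m, rfl⟩]
      omega
  haveI := hN₁
  obtain ⟨E, h1, h2', h3⟩ := exists_normal_of_embedding φ hφ hv.le (N₁.prod Z)
    (fun a ha => Prod.ext (he₁ _ ha.1) (hZ _ ha.2))
    (fun a ha b hb => Prod.ext (hc₁ _ ha.1 _ hb.1) (mul_comm _ _)) S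
  refine ⟨E, h1, h2', le_trans ?_ h3⟩
  rw [Nat.card_congr (N₁.prodEquiv Z).toEquiv, Nat.card_prod, hcard₁, hZcard, ← pow_add]
  exact Nat.pow_le_pow_right two_pos (by omega)

end CfsgLib.NormalRank
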