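import Cfsg.Agent.Lib.SylowAbel.GLBase
import Cfsg.Agent.Lib.TwoRank.Basic

/-!
A normal elementary abelian 2-subgroup of a full Sylow 2-subgroup of `GL_n(q)`, `q ≡ 3 (mod 4)`,
has at most one weight space of dimension one, so its rank is at most `(n + 1) / 2`.
-/

set_option autoImplicit false

namespace CfsgLib.NormalRank

open Matrix

section Arith

variable {F : Type*} [Field F] [Fintype F]

theorem three_le_factorization_sq (h4 : Fintype.card F % 4 = 3) :
    3 ≤ (Fintype.card F ^ 2 - 1).factorization 2 := by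
  set q := Fintype.card F
  have hd : 2 ^ 3 ∣ q ^ 2 - 1 := by
    obtain ⟨k, hk⟩ : ∃ k, q = 4 * k + 3 := ⟨q / 4, by omega⟩
    exact ⟨2 * k ^ 2 + 3 * k + 1, by
      have : q ^ 2 = 2 ^ 3 * (2 * k ^ 2 + 3 * k + 1) + 1 := by rw [hk]; ring
      omega⟩
  have : 1 < q ^ 2 := Nat.one_lt_pow two_ne_zero Fintype.one_lt_card
  exact (Nat.prime_two.pow_dvd_iff_le_factorization (by omega)).1 hd

theorem factorization_pow_sub_one_ge (h4 : Fintype.card F % 4 = 3) {i : ℕ} (hi : i ≠ 0) :
    1 + i.factorization 2 + (1 - i % 2) ≤ (Fintype.card F ^ i - 1).factorization 2 := by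
  rcases Nat.even_or_odd i with ⟨k, rfl⟩ | hodd
  · rw [← two_mul] at hi ⊢
    have hk : k ≠ 0 := by omega
    rw [CfsgLib.SpSylowTwo.factorization_sq_pow Fintype.one_lt_card
      (CfsgLib.SylowAbel.odd_of_three h4) hk, Nat.factorization_mul two_ne_zero hk, Finsupp.add_apply,
      Nat.prime_two.factorization_self]
    have := three_le_factorization_sq h4
    omega
  · rw [CfsgLib.SylowAbel.factorization_pow_sub_one_odd h4 hodd,
      Nat.factorization_eq_zero_of_not_dvd (fun h => by
        have := Nat.odd_iff.mp hodd; omega)]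
    have := Nat.odd_iff.mp hodd
    omega

theorem factorization_GL_gap (h4 : Fintype.card F % 4 = 3) (k : ℕ) {j : ℕ} (hj : 2 ≤ j) :
    (Nat.card (GL (Fin k) F)).factorization 2 + j + (k + j).factorial.factorization 2 + 1 ≤
      (Nat.card (GL (Fin (k + j)) F)).factorization 2 + k.factorial.factorization 2 := by
  have hs : ∀ m : ℕ, (m + 1).factorial.factorization 2 =
      (m + 1).factorization 2 + m.factorial.factorization 2 := fun m => by
    rw [Nat.factorial_succ, Nat.factorization_mul (Nat.succ_ne_zero m) m.factorial_ne_zero,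
      Finsupp.add_apply]
  induction j, hj using Nat.le_induction with
  | base =>
    rw [show k + 2 = k + 1 + 1 from rfl, CfsgLib.SylowAbel.factorization_GL_succ h4,
      CfsgLib.SylowAbel.factorization_GL_succ h4, hs, hs]
    have h1 := factorization_pow_sub_one_ge h4 (Nat.succ_ne_zero k)
    have h2 := factorization_pow_sub_one_ge h4 (Nat.succ_ne_zero (k + 1))
    simp only [Nat.succ_eq_add_one] at h1 h2
    omega
  | succ j _ ih =>
    rw [show k + (j + 1) = (k + j) + 1 from rfl, CfsgLib.SylowAbel.factorization_GL_succ h4, hs]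
    have h1 := factorization_pow_sub_one_ge h4 (Nat.succ_ne_zero (k + j))
    simp only [Nat.succ_eq_add_one] at h1
    omega

theorem monomial_lt (h4 : Fintype.card F % 4 = 3) {n j : ℕ} (hj : 2 ≤ j) (hjn : j ≤ n) :
    (Nat.card (GL (Fin (n - j)) F) * j.factorial * (Fintype.card F - 1) ^ j).factorization 2 <
      (Nat.card (GL (Fin n) F)).factorization 2 := by
  obtain ⟨k, rfl⟩ : ∃ k, n = k + j := ⟨n - j, by omega⟩
  have hq : 1 < Fintype.card F := Fintype.one_lt_card
  have h1 : (Fintype.card F - 1).factorization 2 = 1 := by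
    simpa using CfsgLib.SylowAbel.factorization_pow_sub_one_odd h4 (j := 1) odd_one
  rw [Nat.add_sub_cancel, Nat.factorization_mul (mul_ne_zero Nat.card_pos.ne' j.factorial_ne_zero)
      (pow_ne_zero _ (by omega)), Finsupp.add_apply,
    Nat.factorization_mul Nat.card_pos.ne' j.factorial_ne_zero, Finsupp.add_apply,
    Nat.factorization_pow, Finsupp.smul_apply, h1, smul_eq_mul, mul_one]
  have hgap := factorization_GL_gap h4 k hj
  have hc : j.factorial.factorization 2 + k.factorial.factorization 2 ≤
      (k + j).factorial.factorization 2 := by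
    have h := Nat.add_choose_mul_factorial_mul_factorial k j
    have hne : (k + j).choose j ≠ 0 := (Nat.choose_pos (by omega)).ne'
    rw [← h, Nat.factorization_mul (mul_ne_zero hne k.factorial_ne_zero) j.factorial_ne_zero,
      Nat.factorization_mul hne k.factorial_ne_zero]
    simp only [Finsupp.add_apply]
    omega
  omega

end Arith

section Weights

variable {F : Type*} [Field F] {V : Type*} [AddCommGroup V] [Module F V]
variable {S : Type*} [Group S] (ρ : S →* Module.End F V) (E : Subgroup S)

/-- The common eigenvectors, with eigenvalues `1` and `-1`. -/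
def signVecs (T : Finset S) : Set V := {v | ∀ e ∈ T, ρ e v = v ∨ ρ e v = -v}

theorem span_signVecs (h2 : (2 : F) ≠ 0) (hexp : ∀ e ∈ E, e * e = 1)
    (hcomm : ∀ a ∈ E, ∀ b ∈ E, a * b = b * a) (T : Finset S) (hT : ∀ e ∈ T, e ∈ E) :
    Submodule.span F (signVecs ρ T) = ⊤ := by
  classical
  induction T using Finset.induction_on with
  | empty =>
    rw [eq_top_iff]
    intro v _
    exact Submodule.subset_span fun e he => absurd he (Finset.notMem_empty e)
  | insert a T _ ih =>
    have hT' := fun e he => hT e (Finset.mem_insert_of_mem he)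
    have ha := hT a (Finset.mem_insert_self a T)
    rw [eq_top_iff, ← ih hT', Submodule.span_le]
    intro v hv
    have haa : ρ a (ρ a v) = v := by
      rw [← Module.End.mul_apply, ← map_mul, hexp a ha, map_one, Module.End.one_apply]
    have hmem : ∀ s : V, (s = v + ρ a v ∨ s = v - ρ a v) → s ∈ signVecs ρ (insert a T) := by
      intro s hs e he
      rcases Finset.mem_insert.1 he with rfl | he'
      · rcases hs with rfl | rfl
        · left; rw [map_add, haa, add_comm]
        · right; rw [map_sub, haa, neg_sub]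
      · have hc : ρ e (ρ a v) = ρ a (ρ e v) := by
          rw [← Module.End.mul_apply, ← Module.End.mul_apply, ← map_mul, ← map_mul,
            hcomm e (hT' e he') a ha]
        rcases hv e he' with h | h <;> rcases hs with rfl | rfl
        · left; rw [map_add, hc, h]
        · left; rw [map_sub, hc, h]
        · right; rw [map_add, hc, h, map_neg, neg_add]
        · right; rw [map_sub, hc, h, map_neg]; abel
    rw [show v = (2 : F)⁻¹ • ((v + ρ a v) + (v - ρ a v)) by
      rw [add_add_sub_cancel, ← two_smul F v, smul_smul, inv_mul_cancel₀ h2, one_smul]]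
    exact Submodule.smul_mem _ _ (Submodule.add_mem _ (Submodule.subset_span (hmem _ (Or.inl rfl)))
      (Submodule.subset_span (hmem _ (Or.inr rfl))))

theorem exists_weight_basis [Finite S] [FiniteDimensional F V] (h2 : (2 : F) ≠ 0)
    (hexp : ∀ e ∈ E, e * e = 1) (hcomm : ∀ a ∈ E, ∀ b ∈ E, a * b = b * a) :
    ∃ (b : Module.Basis (Fin (Module.finrank F V)) F V) (χ : Fin (Module.finrank F V) → E → F),
      (∀ i (e : E), ρ (e : S) (b i) = χ i e • b i) ∧ ∀ i e, χ i e = 1 ∨ χ i e = -1 := by
  classical
  haveI := Fintype.ofFinite S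
  set T : Finset S := Finset.univ.filter fun e => e ∈ E
  obtain ⟨B, hB, hspan, hli⟩ := exists_linearIndependent F (signVecs ρ T)
  rw [span_signVecs ρ E h2 hexp hcomm T (fun e he => (Finset.mem_filter.1 he).2)] at hspan
  let b₀ : Module.Basis B F V := Module.Basis.mk hli (by rw [Subtype.range_coe, hspan])
  haveI : Fintype B := FiniteDimensional.fintypeBasisIndex b₀
  let eB : B ≃ Fin (Module.finrank F V) :=
    Fintype.equivFinOfCardEq (Module.finrank_eq_card_basis b₀).symm
  let b := b₀.reindex eB
  have hb : ∀ i, b i ∈ signVecs ρ T := fun i => hB (by simp [b, b₀])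
  let χ : Fin (Module.finrank F V) → E → F := fun i e => if ρ (e : S) (b i) = b i then 1 else -1
  refine ⟨b, χ, fun i e => ?_, fun i e => ?_⟩
  · by_cases h : ρ (e : S) (b i) = b i
    · simp only [χ, h, if_pos, one_smul]
    · rw [show χ i e = -1 from if_neg h, neg_smul, one_smul]
      exact (hb i e (by simp [T])).resolve_left h
  · by_cases h : ρ (e : S) (b i) = b i
    · exact Or.inl (if_pos h)
    · exact Or.inr (if_neg h)

variable {E} {ι : Type*} [Fintype ι] {b : Module.Basis ι F V} {χ : ι → E → F}

/-- The conjugate of a weight. -/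
def conjW [E.Normal] (g : S) (x : E → F) : E → F :=
  fun e => x ⟨g⁻¹ * e * g, by simpa using Subgroup.Normal.conj_mem ‹E.Normal› _ e.2 g⁻¹⟩

theorem conjW_mul [E.Normal] (g h : S) (x : E → F) : conjW g (conjW h x) = conjW (g * h) x := by
  funext e
  simp only [conjW]
  congr 1
  apply Subtype.ext
  simp [mul_assoc]

theorem conjW_one [E.Normal] (x : E → F) : conjW 1 x = x := by
  funext e
  simp only [conjW]
  congr 1
  apply Subtype.ext
  simp

theorem coord_eq_zero [E.Normal] (hχ : ∀ i (e : E), ρ (e : S) (b i) = χ i e • b i) (g : S) (i l : ι)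
    (hne : χ l ≠ conjW g (χ i)) : b.repr (ρ g (b i)) l = 0 := by
  classical
  obtain ⟨e, he⟩ := Function.ne_iff.1 hne
  set e' : E := ⟨g⁻¹ * e * g, by simpa using Subgroup.Normal.conj_mem ‹E.Normal› _ e.2 g⁻¹⟩
  have h1 : ρ (e : S) (ρ g (b i)) = χ i e' • ρ g (b i) := by
    rw [← map_smul, ← hχ, ← Module.End.mul_apply, ← Module.End.mul_apply, ← map_mul, ← map_mul,
      show (e : S) * g = g * (g⁻¹ * e * g) by group]
  have h2 : ∀ v, b.repr (ρ (e : S) v) l = χ l e * b.repr v l := by
    intro v
    have hlin : (b.coord l).comp (ρ (e : S)) = χ l e • b.coord l := b.ext fun k => by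
      simp only [LinearMap.comp_apply, hχ, map_smul, LinearMap.smul_apply, Module.Basis.coord_apply,
        Module.Basis.repr_self, smul_eq_mul]
      rcases eq_or_ne k l with rfl | hkl
      · rfl
      · rw [Finsupp.single_eq_of_ne (Ne.symm hkl), mul_zero, mul_zero]
    exact LinearMap.congr_fun hlin v
  have h3 := h2 (ρ g (b i))
  rw [h1, map_smul, Finsupp.smul_apply, smul_eq_mul] at h3
  have h4 : (χ l e - χ i e') * b.repr (ρ g (b i)) l = 0 := by linear_combination -h3
  exact (mul_eq_zero.1 h4).resolve_left (sub_ne_zero.2 he)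

/-- The indices of a given weight. -/
noncomputable def fib (χ : ι → E → F) (x : E → F) : Finset ι := by
  classical exact Finset.univ.filter fun i => χ i = x

theorem mem_fib {x : E → F} {i : ι} : i ∈ fib χ x ↔ χ i = x := by
  classical simp [fib]

omit [Fintype ι] in
theorem rho_injective (g : S) : Function.Injective (ρ g) := fun v w h => by
  have := congrArg (ρ g⁻¹) h
  rwa [← Module.End.mul_apply, ← Module.End.mul_apply, ← map_mul, inv_mul_cancel, map_one] at this

theorem card_fib_le [E.Normal] (hχ : ∀ i (e : E), ρ (e : S) (b i) = χ i e • b i) (g : S) (x : E → F) :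
    (fib χ x).card ≤ (fib χ (conjW g x)).card := by
  classical
  let W := Submodule.span F (Set.range fun i : fib χ (conjW g x) => b i.1)
  have hmem : ∀ i : fib χ x, ρ g (b i.1) ∈ W := by
    intro i
    rw [← b.sum_repr (ρ g (b i.1))]
    refine Submodule.sum_mem _ fun l _ => ?_
    by_cases hl : l ∈ fib χ (conjW g x)
    · exact Submodule.smul_mem _ _ (Submodule.subset_span ⟨⟨l, hl⟩, rfl⟩)
    · rw [coord_eq_zero ρ hχ g i.1 l (by rw [mem_fib.1 i.2]; exact fun h => hl (mem_fib.2 h)),
        zero_smul]
      exact Submodule.zero_mem _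
  haveI : FiniteDimensional F V := Module.Finite.of_basis b
  have hli : LinearIndependent F fun i : fib χ x => (⟨ρ g (b i.1), hmem i⟩ : W) := by
    apply LinearIndependent.of_comp W.subtype
    exact (b.linearIndependent.comp _ Subtype.val_injective).map' (ρ g)
      (LinearMap.ker_eq_bot.2 (rho_injective ρ g))
  have h := hli.fintype_card_le_finrank
  rw [finrank_span_eq_card (b := fun i : fib χ (conjW g x) => b i.1)
    (b.linearIndependent.comp _ Subtype.val_injective)] at h
  simpa using h

theorem single_iff [E.Normal] (hχ : ∀ i (e : E), ρ (e : S) (b i) = χ i e • b i) (g : S) {i l : ι}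
    (h : χ l = conjW g (χ i)) : (fib χ (χ l)).card = (fib χ (χ i)).card := by
  refine le_antisymm ?_ (by rw [h]; exact card_fib_le ρ hχ g _)
  have := card_fib_le ρ hχ g⁻¹ (χ l)
  rwa [h, conjW_mul, inv_mul_cancel, conjW_one, ← h] at this

theorem exists_coord_ne (g : S) (i : ι) : ∃ l, b.repr (ρ g (b i)) l ≠ 0 := by
  by_contra h
  push Not at h
  exact b.ne_zero i (rho_injective ρ g (show ρ g (b i) = ρ g 0 by
    rw [map_zero]; exact b.ext_elem fun l => by rw [h, map_zero, Finsupp.zero_apply]))

variable [DecidableEq ι] [Finite S] [Fintype F]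

theorem card_dvd_monomial [E.Normal] (hinj : Function.Injective ρ)
    (hχ : ∀ i (e : E), ρ (e : S) (b i) = χ i e • b i) (J : Finset ι)
    (hJ : ∀ i, i ∈ J ↔ (fib χ (χ i)).card = 1) :
    Nat.card S ∣ Nat.card (GL (Fin (Fintype.card ι - J.card)) F) * J.card.factorial *
      (Fintype.card F - 1) ^ J.card := by
  classical
  let M : S →* Matrix ι ι F := (LinearMap.toMatrixAlgEquiv b).toAlgHom.toRingHom.toMonoidHom.comp ρ
  have hM : ∀ g l i, M g l i = b.repr (ρ g (b i)) l := fun g l i =>
    LinearMap.toMatrixAlgEquiv_apply b (ρ g) l i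
  have hzero : ∀ g l i, M g l i ≠ 0 → χ l = conjW g (χ i) := fun g l i h => by
    by_contra hne
    exact h (by rw [hM]; exact coord_eq_zero ρ hχ g i l hne)
  have hblock : ∀ g l i, M g l i ≠ 0 → (l ∈ J ↔ i ∈ J) := fun g l i h => by
    rw [hJ, hJ, single_iff ρ hχ g (hzero g l i h)]
  -- the block outside `J`
  let φ₀ : S →* Matrix {i // i ∉ J} {i // i ∉ J} F :=
    { toFun := fun g => (M g).submatrix Subtype.val Subtype.val
      map_one' := by
        rw [map_one]; ext ⟨l, hl⟩ ⟨i, hi⟩
        simp [Matrix.one_apply]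
      map_mul' := fun g h => by
        ext ⟨l, hl⟩ ⟨i, hi⟩
        simp only [Matrix.submatrix_apply, map_mul, Matrix.mul_apply]
        rw [← Fintype.sum_subtype_add_sum_subtype (fun k => k ∉ J) (fun k => M g l k * M h k i),
          Finset.sum_eq_zero (s := (Finset.univ : Finset {k // ¬ k ∉ J})) (fun k _ => by
            by_contra hne
            exact k.2 fun hkJ => hi ((hblock h k.1 i (right_ne_zero_of_mul hne)).1 hkJ)),
          add_zero] }
  -- the permutation of `J`
  have hex : ∀ (g : S) (i : J), ∃ l : J, χ l.1 = conjW g (χ i.1) := fun g i => by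
    obtain ⟨l, hl⟩ := exists_coord_ne ρ (b := b) g i.1
    rw [← hM] at hl
    exact ⟨⟨l, (hblock g l i.1 hl).2 i.2⟩, hzero g l i.1 hl⟩
  choose π hπ using hex
  have hJinj : ∀ (i : J) (l : ι), χ l = χ i.1 → l = i.1 := fun i l h =>
    Finset.card_le_one.1 ((hJ i.1).1 i.2).le l (mem_fib.2 h) i.1 (mem_fib.2 rfl)
  have hπmul : ∀ g h i, π (g * h) i = π g (π h i) := fun g h i => by
    apply Subtype.ext
    refine hJinj (π g (π h i)) _ ?_
    rw [hπ, hπ g, hπ h, conjW_mul]
  have hπone : ∀ i, π 1 i = i := fun i => Subtype.ext (hJinj i _ (by rw [hπ, conjW_one]))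
  let σ : S →* Equiv.Perm J :=
    { toFun := fun g => ⟨π g, π g⁻¹,
        fun i => by rw [← hπmul, inv_mul_cancel, hπone],
        fun i => by rw [← hπmul, mul_inv_cancel, hπone]⟩
      map_one' := Equiv.ext hπone
      map_mul' := fun g h => Equiv.ext (hπmul g h) }
  let Φ : S →* GL {i // i ∉ J} F × Equiv.Perm J := φ₀.toHomUnits.prod σ
  -- the kernel is diagonal on `J`
  have hcol : ∀ g ∈ Φ.ker, ∀ (i : J) (l : ι), l ≠ i.1 → M g l i.1 = 0 := by
    intro g hg i l hl
    by_contra hne
    have hσ : π g i = i := congrArg (fun x => x i) (congrArg Prod.snd hg)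
    refine hl (hJinj i l ?_)
    rw [hzero g l i.1 hne, ← hπ, hσ]
  let d₀ : Φ.ker →* (J → F) :=
    { toFun := fun g i => M g.1 i.1 i.1
      map_one' := by funext i; simp
      map_mul' := fun g h => by
        funext i
        rw [Subgroup.coe_mul, map_mul, Matrix.mul_apply, Pi.mul_apply]
        refine Finset.sum_eq_single _ (fun k _ hk => ?_) (fun h => absurd (Finset.mem_univ _) h)
        rw [hcol h.1 h.2 i k hk, mul_zero] }
  have hd : Function.Injective d₀.toHomUnits := by
    rw [injective_iff_map_eq_one]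
    intro g hg
    refine Subtype.ext (hinj ((LinearMap.toMatrixAlgEquiv b).injective ?_))
    rw [OneMemClass.coe_one, map_one, map_one]
    show M g.1 = 1
    ext l i
    by_cases hi : i ∈ J
    · rcases eq_or_ne l i with rfl | hli
      · rw [Matrix.one_apply_eq]
        exact congrFun (congrArg Units.val hg) ⟨l, hi⟩
      · rw [Matrix.one_apply_ne hli]
        exact hcol g.1 g.2 ⟨i, hi⟩ l hli
    · by_cases hl : l ∈ J
      · rw [Matrix.one_apply_ne (fun h : l = i => hi (h ▸ hl))]
        by_contra hne
        exact hi ((hblock g.1 l i hne).1 hl)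
      · have h := congrArg (fun x : GL {i // i ∉ J} F × Equiv.Perm J =>
          (x.1 : Matrix {i // i ∉ J} {i // i ∉ J} F) ⟨l, hl⟩ ⟨i, hi⟩) g.2
        exact h.trans (by simp [Matrix.one_apply])
  have h1 : Nat.card Φ.range ∣ Nat.card (GL {i // i ∉ J} F × Equiv.Perm J) :=
    Subgroup.card_subgroup_dvd_card _
  have h2 : Nat.card Φ.ker ∣ Nat.card (J → F)ˣ := Subgroup.card_dvd_of_injective _ hd
  have hS : Nat.card S = Nat.card Φ.range * Nat.card Φ.ker := by
    rw [← Subgroup.index_ker, mul_comm]; exact (Subgroup.card_mul_index _).symm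
  rw [hS]
  refine (Nat.mul_dvd_mul h1 h2).trans (dvd_of_eq ?_)
  have hcard : Fintype.card {i // i ∉ J} = Fintype.card ι - J.card := by
    rw [Fintype.card_subtype_compl, Fintype.card_coe]
  let e : {i // i ∉ J} ≃ Fin (Fintype.card ι - J.card) := Fintype.equivFinOfCardEq hcard
  rw [Nat.card_prod, Nat.card_perm, Nat.card_congr (Units.mapEquiv
      (Matrix.reindexAlgEquiv F F e).toMulEquiv).toEquiv,
    Nat.card_congr (MulEquiv.piUnits (ι := J) (M := fun _ => F)).toEquiv, Nat.card_fun,
    Nat.card_units, Nat.card_eq_fintype_card (α := F), Nat.card_eq_fintype_card (α := J),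
    Fintype.card_coe]

end Weights

variable {F : Type*} [Field F] [Fintype F] {V : Type*} [AddCommGroup V] [Module F V]
  [FiniteDimensional F V] {S : Type*} [Group S] [Finite S]

theorem normal_elementary_le (h4 : Fintype.card F % 4 = 3) (ρ : S →* Module.End F V)
    (hinj : Function.Injective ρ)
    (hfull : (Nat.card (GL (Fin (Module.finrank F V)) F)).factorization 2 ≤
      (Nat.card S).factorization 2)
    (E : Subgroup S) [E.Normal] (hexp : ∀ e ∈ E, e * e = 1)
    (hcomm : ∀ a ∈ E, ∀ b ∈ E, a * b = b * a) :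
    Nat.card E ≤ 2 ^ ((Module.finrank F V + 1) / 2) := by
  classical
  have h2 : (2 : F) ≠ 0 :=
    CfsgLib.TwoRank.two_ne_zero_of_odd_card (CfsgLib.SylowAbel.odd_of_three h4)
  obtain ⟨b, χ, hχ, hsign⟩ := exists_weight_basis ρ E h2 hexp hcomm
  generalize Module.finrank F V = n at b χ hχ hsign hfull ⊢
  set J : Finset (Fin n) := Finset.univ.filter fun i => (fib χ (χ i)).card = 1 with hJ
  have hJle : J.card ≤ 1 := by
    by_contra hlt
    have hdvd := card_dvd_monomial ρ hinj hχ J (fun i => by simp [hJ])
    have hjn : J.card ≤ n := by simpa using J.card_le_univ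
    have hne : Nat.card (GL (Fin (n - J.card)) F) * J.card.factorial *
        (Fintype.card F - 1) ^ J.card ≠ 0 :=
      mul_ne_zero (mul_ne_zero Nat.card_pos.ne' (Nat.factorial_ne_zero _))
        (pow_ne_zero _ (by have := Fintype.one_lt_card (α := F); omega))
    rw [Fintype.card_fin] at hdvd
    have := (Nat.factorization_le_iff_dvd Nat.card_pos.ne' hne).2 hdvd 2
    have := monomial_lt h4 (by omega : 2 ≤ J.card) hjn
    omega
  set X : Finset (E → F) := Finset.univ.image χ with hX
  have hsum : (Finset.univ : Finset (Fin n)).card = ∑ x ∈ X, (fib χ x).card := by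
    rw [Finset.card_eq_sum_card_image χ]
    exact Finset.sum_congr rfl fun x _ => by unfold fib; congr 1
  have h2X : ∑ x ∈ X, 2 ≤ ∑ x ∈ X, ((fib χ x).card + if (fib χ x).card = 1 then 1 else 0) :=
    Finset.sum_le_sum fun x hx => by
      obtain ⟨i, -, rfl⟩ := Finset.mem_image.1 hx
      have : 0 < (fib χ (χ i)).card := Finset.card_pos.2 ⟨i, mem_fib.2 rfl⟩
      split_ifs <;> omega
  have hones : (X.filter fun x => (fib χ x).card = 1).card ≤ J.card := by
    refine le_trans (Finset.card_le_card fun x hx => ?_) (Finset.card_image_le (f := χ) (s := J))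
    obtain ⟨hxX, h1⟩ := Finset.mem_filter.1 hx
    obtain ⟨i, -, rfl⟩ := Finset.mem_image.1 hxX
    exact Finset.mem_image.2 ⟨i, by simp [hJ, h1], rfl⟩
  rw [Finset.sum_add_distrib, ← hsum, Finset.sum_const, smul_eq_mul, ← Finset.card_filter,
    Finset.card_univ, Fintype.card_fin] at h2X
  have hXn : X.card ≤ (n + 1) / 2 := by omega
  let f : E → (X → Bool) := fun e x => decide (x.1 e = 1)
  have hf : Function.Injective f := by
    intro a c h
    refine Subtype.ext (hinj (b.ext fun i => ?_))
    rw [hχ, hχ]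
    congr 1
    have := congrFun h ⟨χ i, Finset.mem_image.2 ⟨i, Finset.mem_univ _, rfl⟩⟩
    simp only [f, decide_eq_decide] at this
    rcases hsign i a with ha | ha <;> rcases hsign i c with hc | hc <;> rw [ha, hc] at this ⊢
    · exact (this.1 rfl).symm
    · exact (this.2 rfl)
  refine (Nat.card_le_card_of_injective f hf).trans ?_
  rw [Nat.card_fun, Nat.card_eq_fintype_card (α := Bool), Nat.card_eq_fintype_card (α := X),
    Fintype.card_coe, Fintype.card_bool]
  exact Nat.pow_le_pow_right two_pos hXn

end CfsgLib.NormalRank
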